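import Groth.Agent.Fixpt.H313.FixPull
import Groth.Agent.Fixpt.H12.AbsInj

/-!
# The fixed point formula for a monoidal pseudofunctor
-/

set_option autoImplicit false

open CategoryTheory MonoidalCategory CategoryTheory.Functor.LaxMonoidal
open CategoryTheory.Functor.OplaxMonoidal

universe v₁ v₂ u₁ u₂ w w₁

namespace Groth.Agent.Fixpt.H313.FormPull

open Groth.Agent.PerfB.BCTot PullMon SqPull FixPull
open Groth.Agent.Fixpt.H313.Square Groth.Agent.Fixpt.H313.IntSq Groth.Agent.Fixpt.H313.Trace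
open Groth.Agent.Fixpt.H313.Fix Groth.Agent.Fixpt.H313.LocComp Groth.Agent.Fixpt.H313.GlobTr
open Groth.Agent.Fixpt.H313.AbsMain
open Proj (mapP)

variable {𝒮 : Type u₁} [Category.{v₁} 𝒮] {D : 𝒮 → Type u₂} [∀ X, Category.{v₂} (D X)]
  [∀ X, MonoidalCategory (D X)] [∀ X, BraidedCategory (D X)] {P : PullData D}
  [br : ∀ {X Y : 𝒮} (f : X ⟶ Y), (P.pull f).Braided] (hP : IsMonPull P)

section Psi

variable (P) {S X : 𝒮} {f : X ⟶ S} {φ : X ⟶ X} (hφ : φ ≫ f = f) {R : D X ⥤ D S} (adj : P.pull f ⊣ R)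

/-- The action of `(φ, u)` on `f_* E`. -/
def psiP {E : D X} (u : (P.pull φ).obj E ⟶ E) : R.obj E ⟶ R.obj E :=
  adj.homEquiv _ _ ((tri P φ f f hφ).inv.app (R.obj E) ≫ (P.pull φ).map (adj.counit.app E) ≫ u)

end Psi

section UX

variable (P) {S X : 𝒮} {φ : X ⟶ X} {x : S ⟶ X} (hx : x ≫ φ = x)

/-- The endomorphism of the fibre. -/
def uxP {E : D X} (u : (P.pull φ).obj E ⟶ E) : (P.pull x).obj E ⟶ (P.pull x).obj E :=
  (tri P x φ x hx).inv.app E ≫ (P.pull x).map u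

end UX

variable {S X : 𝒮} {f : X ⟶ S} {d : Diag f} {φ : X ⟶ X} (g : Graph d φ)
    (I : IntData (sq hP d)) (Gr : D X ⥤ D d.Z) (adjG : P.pull g.γ ⊣ Gr)
    (θ : Gr.obj (𝟙_ (D X)) ⟶ (P.pull d.p₂).obj I.ω)
    (hθ : I.int₁ (adjG.homEquiv ((P.pull d.p₁).obj (𝟙_ (D X))) (𝟙_ (D X))
      (retr P g.γ d.p₁ g.γ₁ (𝟙_ (D X))).hom ≫ θ) = 𝟙 (𝟙_ (D X)))

lemma qNat : QNat (fixData hP g I Gr adjG θ hθ) := fun u => tri_nat P φ f f g.w u

lemma psi_eq {E : D X} (u : (P.pull φ).obj E ⟶ E) :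
    Psi (fixData hP g I Gr adjG θ hθ) u = psiP P g.w I.adj u := rfl

omit [∀ X, MonoidalCategory (D X)] [∀ X, BraidedCategory (D X)] br in
lemma homEquiv_psiP (hφ : φ ≫ f = f) {R : D X ⥤ D S} (adj : P.pull f ⊣ R) {E : D X}
    (u : (P.pull φ).obj E ⟶ E) {T : D S} (c : (P.pull f).obj T ⟶ E) :
    adj.homEquiv _ _ ((tri P φ f f hφ).inv.app T ≫ (P.pull φ).map c ≫ u) =
      adj.homEquiv _ _ c ≫ psiP P hφ adj u := by
  rw [psiP, ← adj.homEquiv_naturality_left]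
  congr 1
  rw [reassoc_of% (tri_inv_nat P φ f f hφ (adj.homEquiv _ _ c)), ← Functor.map_comp_assoc]
  congr 3
  exact ((adj.homEquiv_counit _ _ _).symm.trans ((adj.homEquiv _ _).symm_apply_apply _)).symm

section Form

variable [∀ X, Preadditive (D X)] [∀ X, MonoidalPreadditive (D X)]
  {k : Type w} [Field k] (κ : k ≃+* End (𝟙_ (D S)))

theorem formula (hI : IntAdd I) {ι : Type w₁} [Fintype ι] (x : ι → (S ⟶ X)) (hx : ∀ i, FPt g (x i))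
    (hxa : ∀ i, (P.pull (x i)).Additive)
    (hinj : ∀ r : 𝟙_ (D X) ⟶ (P.pull d.Δ).obj (Gr.obj (𝟙_ (D X))),
      (∀ i, (xData hP (hx i) I Gr adjG θ hθ).comp r = 0) → r = 0) :
    ∃ c : ι → k, ∀ (E E' : D X) [ExactPairing E E'] (_ : IsIso (bcE I E)) (dec : Decomp (I.R.obj E))
      (_ : Detects I ((P.pull d.p₁).obj E' ⊗ (P.pull d.p₂).obj E))
      (_ : ∀ j, Lifts I ((P.pull f).obj (dec.T' j) ⊗ E))
      (u : (P.pull φ).obj E ⟶ E),
      ∑ j, κ.symm (Tr (dec.T' j) (dec.α j ≫ psiP P g.w I.adj u ≫ dec.π j)) =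
        ∑ i, c i * κ.symm (letI := mapP (P.pull (x i)) E E'; Tr ((P.pull (x i)).obj E')
          (uxP P (hx i).fix u)) := by
  obtain ⟨c, hc⟩ := abs_formula (fixData hP g I Gr adjG θ hθ) κ hI (qNat hP g I Gr adjG θ hθ)
    (fun i => P.pull (x i)) hxa (fun i => xData hP (hx i) I Gr adjG θ hθ) (fun i => jIso (hx i)) hinj
  refine ⟨c, fun E E' _ h1 dec h2 h3 u => (hc E E' h1 dec h2 h3 u).trans ?_⟩
  refine Finset.sum_congr rfl fun i _ => ?_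
  have h := xData_ux hP (hx i) I Gr adjG θ hθ u
  rw [uxP, ← h]

/-- The detecting morphisms `Δ^* γ_* 1 ⟶ x_* 1`. -/
theorem hinj_of {ι : Type w₁} (x : ι → (S ⟶ X)) (hx : ∀ i, FPt g (x i))
    (xs : ι → (D S ⥤ D X)) (adj : ∀ i, P.pull (x i) ⊣ xs i) (hxa : ∀ i, (P.pull (x i)).Additive)
    (hk : 𝟙 (𝟙_ (D S)) ≠ 0)
    (H : ∀ (m : ∀ i, (P.pull d.Δ).obj (Gr.obj (𝟙_ (D X))) ⟶ (xs i).obj (𝟙_ (D S))), (∀ i, m i ≠ 0) →
      ∀ r : 𝟙_ (D X) ⟶ (P.pull d.Δ).obj (Gr.obj (𝟙_ (D X))), (∀ i, r ≫ m i = 0) → r = 0)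
    (r : 𝟙_ (D X) ⟶ (P.pull d.Δ).obj (Gr.obj (𝟙_ (D X))))
    (hr : ∀ i, (xData hP (hx i) I Gr adjG θ hθ).comp r = 0) : r = 0 := by
  have h2 : ∀ i, (xs i).Additive := fun i => by
    have := hxa i
    exact (adj i).right_adjoint_additive
  refine H (fun i => H12.AbsInj.kapb (xData hP (hx i) I Gr adjG θ hθ) (adj i)) (fun i => ?_) r fun i => ?_
  · exact H12.AbsInj.kapb_ne_zero (xData hP (hx i) I Gr adjG θ hθ) (adj i) hk
  · exact H12.AbsInj.comp_kapb (xData hP (hx i) I Gr adjG θ hθ) (adj i) r (hr i)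

end Form

end Groth.Agent.Fixpt.H313.FormPull
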